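import Cfsg.Agent.Lib.Helper39.Stbg.Order

/-!
# The Bruhat decomposition of the general linear group
-/

set_option autoImplicit false
set_option linter.unusedSectionVars false

namespace Cfsg.Agent.Lib.Helper39.Stbg

open Cfsg Matrix
open scoped MatrixGroups

variable {F : Type*} [Field F] {n : ℕ}

/-- permutation matrices -/
def wMat (F : Type*) [Field F] {n : ℕ} : Equiv.Perm (Fin n) →* Matrix (Fin n) (Fin n) F where
  toFun σ := Matrix.of fun i j => if i = σ j then 1 else 0
  map_one' := by
    ext i j
    by_cases h : i = j <;> simp [Matrix.one_apply, h]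
  map_mul' σ τ := by
    ext i k
    rw [Matrix.mul_apply]
    simp only [Matrix.of_apply, Equiv.Perm.mul_apply]
    rw [Finset.sum_eq_single (τ k)]
    · by_cases h : i = σ (τ k) <;> simp [h]
    · intro j _ hj
      simp [hj]
    · intro h
      exact absurd (Finset.mem_univ _) h

/-- permutation matrices as elements of the general linear group -/
def wGL (F : Type*) [Field F] {n : ℕ} : Equiv.Perm (Fin n) →* GL (Fin n) F := (wMat F).toHomUnits

theorem wGL_apply (σ : Equiv.Perm (Fin n)) (i j : Fin n) :
    (wGL F σ).1 i j = if i = σ j then 1 else 0 := rfl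

theorem wGL_mulVec (σ : Equiv.Perm (Fin n)) (v : Fin n → F) (i : Fin n) :
    ((wGL F σ).1 *ᵥ v) i = v (σ⁻¹ i) := by
  rw [Matrix.mulVec, dotProduct, Finset.sum_eq_single (σ⁻¹ i)]
  · rw [wGL_apply]
    simp
  · intro j _ hj
    rw [wGL_apply, if_neg, zero_mul]
    intro h
    apply hj
    rw [h]
    simp
  · intro h
    exact absurd (Finset.mem_univ _) h

/-- the upper triangular group -/
abbrev borel (F : Type*) [Field F] (n : ℕ) : Subgroup (GL (Fin n) F) := blockSub F (fun i : Fin n => i.val)

theorem borel_le {a : Fin n → ℕ} (ha : Monotone a) : borel F n ≤ blockSub F a := by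
  intro g hg i j hij
  apply hg
  by_contra hcon
  push Not at hcon
  exact absurd (ha (show i ≤ j from hcon)) (not_le.2 hij)

theorem exists_borel_of_unitri (U : Matrix (Fin n) (Fin n) F) (h1 : ∀ i j : Fin n, j < i → U i j = 0)
    (h2 : ∀ i, U i i ≠ 0) : ∃ u : GL (Fin n) F, u.1 = U ∧ u ∈ borel F n := by
  have hdet : U.det ≠ 0 := by
    rw [Matrix.det_of_isUpperTriangular (show U.BlockTriangular id from fun i j hij => h1 i j hij)]
    exact Finset.prod_ne_zero_iff.2 (fun i _ => h2 i)
  exact ⟨Matrix.GeneralLinearGroup.mkOfDetNeZero U hdet, rfl, fun i j hij => h1 i j hij⟩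

/-- the first `c` columns are monomial -/
def Clean (c : ℕ) (h : Matrix (Fin n) (Fin n) F) : Prop :=
  ∀ j : Fin n, j.val < c → ∃ r, h r j ≠ 0 ∧ (∀ i, i ≠ r → h i j = 0) ∧ (∀ k, k ≠ j → h r k = 0)

theorem clean_step (h : Matrix (Fin n) (Fin n) F) (hdet : h.det ≠ 0) (c : Fin n)
    (hc : Clean c.val h) :
    ∃ U U' : Matrix (Fin n) (Fin n) F, (∀ i j : Fin n, j < i → U i j = 0) ∧ (∀ i, U i i ≠ 0) ∧
      (∀ i j : Fin n, j < i → U' i j = 0) ∧ (∀ i, U' i i ≠ 0) ∧ Clean (c.val + 1) (U * h * U') := by
  classical
  have hcol : (Finset.univ.filter fun i => h i c ≠ 0).Nonempty := by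
    by_contra hcon
    rw [Finset.not_nonempty_iff_eq_empty, Finset.filter_eq_empty_iff] at hcon
    apply hdet
    apply Matrix.det_eq_zero_of_column_eq_zero c
    intro i
    have := hcon (Finset.mem_univ i)
    push Not at this
    exact this
  set r := (Finset.univ.filter fun i => h i c ≠ 0).max' hcol with hr
  have hrc : h r c ≠ 0 := (Finset.mem_filter.1 (Finset.max'_mem _ hcol)).2
  have hbelow : ∀ i, r < i → h i c = 0 := by
    intro i hi
    by_contra hne
    have := Finset.le_max' (Finset.univ.filter fun i => h i c ≠ 0) i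
      (Finset.mem_filter.2 ⟨Finset.mem_univ _, hne⟩)
    exact absurd this (not_le.2 hi)
  have hrj : ∀ j : Fin n, j.val < c.val → h r j = 0 := by
    intro j hj
    obtain ⟨rj, h1, h2, h3⟩ := hc j hj
    apply h2
    rintro rfl
    exact hrc (h3 c (by intro h; rw [h] at hj; exact lt_irrefl _ hj))
  set x : Fin n → F := fun i => if i < r then h i c / h r c else 0 with hx
  set y : Fin n → F := fun k => if c < k then h r k / h r c else 0 with hy
  have hent : ∀ i k, ((1 - vecMulVec x (Pi.single r 1)) * h * (1 - vecMulVec (Pi.single c 1) y)) i k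
      = (h i k - x i * h r k) - (h i c - x i * h r c) * y k := by
    intro i k
    rw [Matrix.sub_mul, Matrix.one_mul, Matrix.vecMulVec_mul, Matrix.single_one_vecMul,
      Matrix.mul_sub, Matrix.mul_one, Matrix.mul_vecMulVec, Matrix.mulVec_single_one]
    simp only [Matrix.sub_apply, vecMulVec_apply, Matrix.col_apply, Matrix.row_apply]
  have hU : ∀ i k, (1 - vecMulVec x (Pi.single r 1) : Matrix (Fin n) (Fin n) F) i k
      = (if i = k then 1 else 0) - x i * (if k = r then 1 else 0) := by
    intro i k
    simp only [Matrix.sub_apply, vecMulVec_apply, Matrix.one_apply, Pi.single_apply]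
  have hU' : ∀ i k, (1 - vecMulVec (Pi.single c 1) y : Matrix (Fin n) (Fin n) F) i k
      = (if i = k then 1 else 0) - (if i = c then 1 else 0) * y k := by
    intro i k
    simp only [Matrix.sub_apply, vecMulVec_apply, Matrix.one_apply, Pi.single_apply]
  have hxr : x r = 0 := by simp [hx]
  have hyc : y c = 0 := by simp [hy]
  have hcolc : ∀ i, i ≠ r → h i c - x i * h r c = 0 := by
    intro i hi
    rcases lt_or_gt_of_ne hi with hlt | hgt
    · simp only [hx, if_pos hlt]
      field_simp
      ring
    · simp only [hx, if_neg (not_lt.2 (le_of_lt hgt)), hbelow i hgt]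
      ring
  refine ⟨1 - vecMulVec x (Pi.single r 1), 1 - vecMulVec (Pi.single c 1) y, ?_, ?_, ?_, ?_, ?_⟩
  · intro i j hji
    rw [hU, if_neg (ne_of_gt hji)]
    by_cases hjr : j = r
    · subst hjr
      simp [hx, not_lt.2 (le_of_lt hji)]
    · simp [hjr]
  · intro i
    rw [hU, if_pos rfl]
    by_cases hir : i = r
    · rw [hir, hxr]; simp
    · simp [hir]
  · intro i j hji
    rw [hU', if_neg (ne_of_gt hji)]
    by_cases hic : i = c
    · subst hic
      simp [hy, not_lt.2 (le_of_lt hji)]
    · simp [hic]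
  · intro i
    rw [hU', if_pos rfl]
    by_cases hic : i = c
    · rw [hic, hyc]; simp
    · simp [hic]
  · intro j hj
    rcases Nat.lt_succ_iff_lt_or_eq.1 hj with hlt | heq
    · obtain ⟨rj, h1, h2, h3⟩ := hc j hlt
      have hjc : c ≠ j := by intro h; rw [h] at hlt; exact lt_irrefl _ hlt
      have hrjc : h rj c = 0 := h3 c hjc
      have hne : rj ≠ r := by
        rintro rfl
        exact hrc hrjc
      have hxrj : x rj = 0 := by
        simp only [hx, hrjc]
        simp
      have hyj : y j = 0 := by
        simp only [hy]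
        rw [if_neg]
        intro h
        exact absurd (show c.val < j.val from h) (by omega)
      refine ⟨rj, ?_, ?_, ?_⟩
      · rw [hent, hxrj, hyj]
        simpa using h1
      · intro i hi
        rw [hent, hyj, hrj j hlt, h2 i hi]
        ring
      · intro k hk
        rw [hent, hxrj, h3 k hk, hrjc]
        ring
    · have hjc : j = c := Fin.ext heq
      subst hjc
      refine ⟨r, ?_, ?_, ?_⟩
      · rw [hent, hxr, hyc]
        simpa using hrc
      · intro i hi
        rw [hent, hyc, hcolc i hi]
        ring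
      · intro k hk
        rw [hent, hxr]
        rcases lt_or_gt_of_ne hk with hlt | hgt
        · rw [hrj k hlt]
          simp only [hy, if_neg (not_lt.2 (le_of_lt hlt))]
          ring
        · simp only [hy, if_pos hgt]
          field_simp
          ring

theorem exists_clean (g : GL (Fin n) F) (c : ℕ) (hc : c ≤ n) :
    ∃ u ∈ borel F n, ∃ u' ∈ borel F n, Clean c (u * g * u').1 := by
  induction c with
  | zero => exact ⟨1, one_mem _, 1, one_mem _, fun j hj => absurd hj (Nat.not_lt_zero _)⟩
  | succ c ih =>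
    obtain ⟨u, hu, u', hu', hcl⟩ := ih (by omega)
    have hdet : (u * g * u').1.det ≠ 0 := by
      have := (Matrix.isUnit_iff_isUnit_det _).1 (u * g * u').isUnit
      exact this.ne_zero
    obtain ⟨U, U', h1, h2, h3, h4, h5⟩ := clean_step (u * g * u').1 hdet ⟨c, by omega⟩ hcl
    obtain ⟨v, hv, hvB⟩ := exists_borel_of_unitri U h1 h2
    obtain ⟨v', hv', hvB'⟩ := exists_borel_of_unitri U' h3 h4
    refine ⟨v * u, mul_mem hvB hu, u' * v', mul_mem hu' hvB', ?_⟩
    have e : (v * u * g * (u' * v')).1 = U * (u * g * u').1 * U' := by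
      rw [← hv, ← hv']
      simp only [Units.val_mul, Matrix.mul_assoc]
    rw [e]
    exact h5

theorem bruhat (g : GL (Fin n) F) :
    ∃ u ∈ borel F n, ∃ u' ∈ borel F n, ∃ σ : Equiv.Perm (Fin n), g = u * wGL F σ * u' := by
  obtain ⟨u, hu, u', hu', hcl⟩ := exists_clean g n le_rfl
  set h := (u * g * u').1 with hh
  choose r hr1 hr2 hr3 using fun j : Fin n => hcl j j.2
  have hinj : Function.Injective r := by
    intro j j' hjj
    by_contra hne
    apply hr1 j'
    rw [← hjj]
    exact hr3 j j' (Ne.symm hne)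
  set σ : Equiv.Perm (Fin n) := Equiv.ofBijective r (Finite.injective_iff_bijective.1 hinj) with hσ
  obtain ⟨D, hD, hDB⟩ := exists_borel_of_unitri (Matrix.diagonal fun j => h (r j) j) (by
    intro i j hji
    rw [Matrix.diagonal_apply_ne _ (ne_of_gt hji)]) (by
    intro i
    rw [Matrix.diagonal_apply_eq]
    exact hr1 i)
  have e : u * g * u' = wGL F σ * D := by
    apply Units.ext
    ext i k
    change h i k = ((wGL F σ).1 * D.1) i k
    rw [hD, Matrix.mul_diagonal, wGL_apply]
    by_cases hik : i = r k
    · rw [if_pos (by rw [hσ]; exact hik), one_mul, hik]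
    · rw [if_neg (by rw [hσ]; exact hik), zero_mul]
      exact hr2 k i hik
  refine ⟨u⁻¹, inv_mem hu, D * u'⁻¹, mul_mem hDB (inv_mem hu'), σ, ?_⟩
  have : g = u⁻¹ * (u * g * u') * u'⁻¹ := by group
  rw [this, e]
  group

end Cfsg.Agent.Lib.Helper39.Stbg
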