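import Mathlib
import Cfsg.Prelude.Def_LinearParabolics

/-!
# The block labelling attached to a composition
-/

set_option autoImplicit false
set_option linter.unusedSectionVars false

namespace Cfsg.Agent.Lib.Helper39.Stbg

open Cfsg

variable {n : ℕ}

/-- partial sums of a composition -/
def pS (μ : Fin n → ℕ) (l : Fin n) : ℕ := ∑ k ∈ Finset.univ.filter (fun k : Fin n => k ≤ l), μ k

theorem compLabel_def (μ : Fin n → ℕ) (i : Fin n) :
    compLabel μ i = (Finset.univ.filter fun j : Fin n => pS μ j ≤ i.val).card := rfl

theorem pS_mono (μ : Fin n → ℕ) : Monotone (pS μ) := by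
  intro l l' h
  unfold pS
  apply Finset.sum_le_sum_of_subset
  intro k hk
  rw [Finset.mem_filter] at hk ⊢
  exact ⟨hk.1, hk.2.trans h⟩

theorem pS_le (μ : Fin n → ℕ) (l : Fin n) : pS μ l ≤ ∑ k, μ k := by
  unfold pS
  exact Finset.sum_le_sum_of_subset (Finset.filter_subset _ _)

theorem compLabel_le_iff (μ : Fin n → ℕ) (i l : Fin n) :
    compLabel μ i ≤ l.val ↔ i.val < pS μ l := by
  rw [compLabel_def]
  constructor
  · intro h
    by_contra hcon
    push Not at hcon
    have h1 : Finset.Iic l ⊆ Finset.univ.filter fun j : Fin n => pS μ j ≤ i.val := by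
      intro j hj
      rw [Finset.mem_filter]
      exact ⟨Finset.mem_univ _, (pS_mono μ (Finset.mem_Iic.1 hj)).trans hcon⟩
    have h2 := Finset.card_le_card h1
    rw [Fin.card_Iic] at h2
    omega
  · intro h
    have h1 : (Finset.univ.filter fun j : Fin n => pS μ j ≤ i.val) ⊆ Finset.Iio l := by
      intro j hj
      rw [Finset.mem_filter] at hj
      rw [Finset.mem_Iio]
      by_contra hcon
      push Not at hcon
      have := pS_mono μ hcon
      omega
    have h2 := Finset.card_le_card h1
    rwa [Fin.card_Iio] at h2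

theorem compLabel_mono (μ : Fin n → ℕ) : Monotone (compLabel μ) := by
  intro i i' h
  rw [compLabel_def, compLabel_def]
  apply Finset.card_le_card
  intro j hj
  rw [Finset.mem_filter] at hj ⊢
  exact ⟨hj.1, hj.2.trans h⟩

theorem pS_last (μ : Fin n → ℕ) (l : Fin n) (hl : l.val + 1 = n) : pS μ l = ∑ k, μ k := by
  unfold pS
  congr 1
  ext k
  simp only [Finset.mem_filter, Finset.mem_univ, true_and, iff_true]
  rw [Fin.le_def]
  have := k.2
  omega

theorem compLabel_lt {μ : Fin n → ℕ} (hμ : ∑ k, μ k = n) (i : Fin n) : compLabel μ i < n := by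
  have hn : 0 < n := lt_of_le_of_lt (Nat.zero_le _) i.2
  have h := (compLabel_le_iff μ i ⟨n - 1, by omega⟩).2 (by
    rw [pS_last μ _ (by simp; omega), hμ]
    exact i.2)
  simp only at h
  omega

theorem card_compLabel_le {μ : Fin n → ℕ} (hμ : ∑ k, μ k = n) (l : Fin n) :
    (Finset.univ.filter fun i : Fin n => compLabel μ i ≤ l.val).card = pS μ l := by
  simp_rw [compLabel_le_iff]
  rw [Fin.card_filter_val_lt]
  have := pS_le μ l
  omega

theorem pS_succ (μ : Fin n → ℕ) (l l' : Fin n) (h : l'.val = l.val + 1) :
    pS μ l' = pS μ l + μ l' := by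
  unfold pS
  have : Finset.univ.filter (fun k : Fin n => k ≤ l')
      = insert l' (Finset.univ.filter (fun k : Fin n => k ≤ l)) := by
    ext k
    simp only [Finset.mem_filter, Finset.mem_univ, true_and, Finset.mem_insert, Fin.le_def,
      Fin.ext_iff]
    omega
  rw [this, Finset.sum_insert, add_comm]
  simp only [Finset.mem_filter, Finset.mem_univ, true_and, Fin.le_def]
  omega

theorem pS_zero (μ : Fin n → ℕ) (l : Fin n) (h : l.val = 0) : pS μ l = μ l := by
  unfold pS
  have : Finset.univ.filter (fun k : Fin n => k ≤ l) = {l} := by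
    ext k
    simp only [Finset.mem_filter, Finset.mem_univ, true_and, Finset.mem_singleton, Fin.le_def,
      Fin.ext_iff]
    omega
  rw [this, Finset.sum_singleton]

/-- the blocks have the prescribed sizes -/
theorem card_compLabel_eq {μ : Fin n → ℕ} (hμ : ∑ k, μ k = n) (l : Fin n) :
    (Finset.univ.filter fun i : Fin n => compLabel μ i = l.val).card = μ l := by
  rcases Nat.eq_zero_or_pos l.val with h0 | hpos
  · have h1 := card_compLabel_le hμ l
    rw [pS_zero μ l h0] at h1
    rw [← h1]
    congr 1
    ext i
    simp only [Finset.mem_filter, Finset.mem_univ, true_and]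
    omega
  · set l₀ : Fin n := ⟨l.val - 1, by have := l.2; omega⟩ with hl₀
    have h1 := card_compLabel_le hμ l
    have h2 := card_compLabel_le hμ l₀
    rw [pS_succ μ l₀ l (by simp [hl₀]; omega)] at h1
    have h3 : (Finset.univ.filter fun i : Fin n => compLabel μ i ≤ l.val)
        = (Finset.univ.filter fun i : Fin n => compLabel μ i ≤ l₀.val) ∪
          (Finset.univ.filter fun i : Fin n => compLabel μ i = l.val) := by
      ext i
      simp only [Finset.mem_filter, Finset.mem_univ, true_and, Finset.mem_union, hl₀]
      omega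
    have h4 : Disjoint (Finset.univ.filter fun i : Fin n => compLabel μ i ≤ l₀.val)
        (Finset.univ.filter fun i : Fin n => compLabel μ i = l.val) := by
      rw [Finset.disjoint_left]
      intro i hi hi'
      simp only [Finset.mem_filter, Finset.mem_univ, true_and, hl₀] at hi hi'
      omega
    rw [h3, Finset.card_union_of_disjoint h4, h2] at h1
    omega

end Cfsg.Agent.Lib.Helper39.Stbg
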