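import Cfsg.Agent.Lib.Helper39.Stbg.Label

/-!
# The order of a standard parabolic subgroup of the general linear group
-/

set_option autoImplicit false
set_option linter.unusedSectionVars false

namespace Cfsg.Agent.Lib.Helper39.Stbg

open Cfsg Module
open scoped MatrixGroups

section general

variable {K V : Type*} [Field K] [Fintype K] [AddCommGroup V] [Module K V] [Finite V]

theorem card_mem_not_mem (W U : Submodule K V) (h : U ≤ W) :
    Nat.card {v : V // v ∈ W ∧ v ∉ U} = Nat.card W - Nat.card U := by
  classical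
  have := Fintype.ofFinite V
  rw [Nat.card_eq_fintype_card, Nat.card_eq_fintype_card, Nat.card_eq_fintype_card,
    Fintype.card_subtype, Fintype.card_subtype, Fintype.card_subtype]
  have : Finset.univ.filter (fun v : V => v ∈ W ∧ v ∉ U)
      = Finset.univ.filter (fun v : V => v ∈ W) \ Finset.univ.filter (fun v : V => v ∈ U) := by
    ext v
    simp
  rw [this, Finset.card_sdiff_of_subset]
  intro v hv
  rw [Finset.mem_filter] at hv ⊢
  exact ⟨hv.1, h hv.2⟩

/-- adding a last vector -/
def flagEquiv (W : ℕ → Submodule K V) (k : ℕ) :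
    {s : Fin (k + 1) → V // LinearIndependent K s ∧ ∀ j : Fin (k + 1), s j ∈ W j.val} ≃
      Σ s : {s : Fin k → V // LinearIndependent K s ∧ ∀ j : Fin k, s j ∈ W j.val},
        {v : V // v ∈ W k ∧ v ∉ Submodule.span K (Set.range s.1)} where
  toFun s := ⟨⟨Fin.init s.1, by
      have h := s.2.1
      rw [← Fin.snoc_init_self s.1, linearIndependent_finSnoc] at h
      exact h.1, fun j => s.2.2 j.castSucc⟩, ⟨s.1 (Fin.last k), by
      have := s.2.2 (Fin.last k)
      simpa using this, by
      have h := s.2.1
      rw [← Fin.snoc_init_self s.1, linearIndependent_finSnoc] at h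
      exact h.2⟩⟩
  invFun p := ⟨Fin.snoc p.1.1 p.2.1, linearIndependent_finSnoc.2 ⟨p.1.2.1, p.2.2.2⟩, by
    intro j
    refine Fin.lastCases ?_ ?_ j
    · simpa using p.2.2.1
    · intro i
      simpa using p.1.2.2 i⟩
  left_inv s := by
    apply Subtype.ext
    exact Fin.snoc_init_self s.1
  right_inv p := by
    obtain ⟨⟨s, hs⟩, ⟨v, hv⟩⟩ := p
    have h1 : Fin.init (Fin.snoc s v : Fin (k + 1) → V) = s := Fin.init_snoc _ _
    rw [Sigma.mk.inj_iff]
    refine ⟨Subtype.ext h1, ?_⟩
    rw [Subtype.heq_iff_coe_eq]
    · simp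
    · intro x
      simp only [h1]

theorem card_flagLI (W : ℕ → Submodule K V) (hW : Monotone W) (d : ℕ → ℕ)
    (hd : ∀ j, Nat.card (W j) = Fintype.card K ^ d j) (k : ℕ) :
    Nat.card {s : Fin k → V // LinearIndependent K s ∧ ∀ j : Fin k, s j ∈ W j.val}
      = ∏ j : Fin k, (Fintype.card K ^ d j - Fintype.card K ^ j.val) := by
  classical
  induction k with
  | zero =>
    rw [Finset.univ_eq_empty, Finset.prod_empty, Nat.card_eq_one_iff_unique]
    refine ⟨⟨fun a b => Subtype.ext (Subsingleton.elim _ _)⟩, ⟨⟨fun i => i.elim0, ?_, fun j => j.elim0⟩⟩⟩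
    exact linearIndependent_empty_type
  | succ k ih =>
    have := Fintype.ofFinite {s : Fin k → V // LinearIndependent K s ∧ ∀ j : Fin k, s j ∈ W j.val}
    rw [Nat.card_congr (flagEquiv W k), Nat.card_sigma]
    have h1 : ∀ s : {s : Fin k → V // LinearIndependent K s ∧ ∀ j : Fin k, s j ∈ W j.val},
        Nat.card {v : V // v ∈ W k ∧ v ∉ Submodule.span K (Set.range s.1)}
          = Fintype.card K ^ d k - Fintype.card K ^ k := by
      intro s
      rw [card_mem_not_mem, hd, Module.natCard_eq_pow_finrank (K := K)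
        (V := Submodule.span K (Set.range s.1)), finrank_span_eq_card s.2.1, Fintype.card_fin,
        Nat.card_eq_fintype_card]
      rw [Submodule.span_le]
      rintro _ ⟨j, rfl⟩
      exact hW (le_of_lt j.2) (s.2.2 j)
    simp_rw [h1]
    rw [Finset.sum_const, Finset.card_univ, ← Nat.card_eq_fintype_card, ih, smul_eq_mul,
      Fin.prod_univ_castSucc]
    simp

end general

variable {F : Type*} [Field F] [Fintype F] {n : ℕ}

theorem card_supported {ι : Type*} [Fintype ι] (p : ι → Prop) [DecidablePred p] :
    Nat.card {v : ι → F // ∀ i, ¬ p i → v i = 0} = Fintype.card F ^ (Finset.univ.filter p).card := by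
  classical
  have e : {v : ι → F // ∀ i, ¬ p i → v i = 0} ≃ ({i // p i} → F) :=
    { toFun := fun v i => v.1 i.1
      invFun := fun y => ⟨fun i => if h : p i then y ⟨i, h⟩ else 0, by
        intro i hi
        simp [hi]⟩
      left_inv := by
        intro v
        apply Subtype.ext
        funext i
        by_cases hi : p i
        · simp [hi]
        · simp [hi, v.2 i hi]
      right_inv := by
        intro y
        funext i
        simp [i.2] }
  rw [Nat.card_congr e, Nat.card_eq_fintype_card, Fintype.card_fun, Fintype.card_subtype]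

/-- the subspaces of the standard flag -/
def stdFlag (F : Type*) [Field F] (b : Fin n → ℕ) (j : ℕ) : Submodule F (Fin n → F) where
  carrier := {v | ∀ i : Fin n, (∀ j' : Fin n, j'.val ≤ j → b j' < b i) → v i = 0}
  add_mem' := by
    intro v w hv hw i hi
    rw [Pi.add_apply, hv i hi, hw i hi, add_zero]
  zero_mem' := fun i _ => rfl
  smul_mem' := by
    intro c v hv i hi
    rw [Pi.smul_apply, hv i hi, smul_zero]

theorem stdFlag_mono (b : Fin n → ℕ) : Monotone (stdFlag F b) := by
  intro j j₂ h v hv i hi
  exact hv i (fun j' hj' => hi j' (hj'.trans h))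

theorem mem_stdFlag {b : Fin n → ℕ} (hb : Monotone b) (j : Fin n) (v : Fin n → F) :
    v ∈ stdFlag F b j.val ↔ ∀ i, b j < b i → v i = 0 := by
  constructor
  · intro hv i hi
    exact hv i (fun j' hj' => lt_of_le_of_lt (hb hj') hi)
  · intro hv i hi
    exact hv i (hi j le_rfl)

open Classical in
/-- the dimensions of the standard flag -/
noncomputable def stdDim (b : Fin n → ℕ) (j : ℕ) : ℕ :=
  (Finset.univ.filter fun i : Fin n => ¬ ∀ j' : Fin n, j'.val ≤ j → b j' < b i).card

theorem card_stdFlag (b : Fin n → ℕ) (j : ℕ) :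
    Nat.card (stdFlag F b j) = Fintype.card F ^ stdDim b j := by
  classical
  have := card_supported (F := F) (fun i : Fin n => ¬ ∀ j' : Fin n, j'.val ≤ j → b j' < b i)
  unfold stdDim
  rw [← this]
  apply Nat.card_congr
  apply Equiv.subtypeEquivRight
  intro v
  constructor
  · intro hv i hi
    exact hv i (not_not.1 hi)
  · intro hv i hi
    exact hv i (not_not.2 hi)

theorem stdDim_eq {b : Fin n → ℕ} (hb : Monotone b) (j : Fin n) :
    stdDim b j.val = (Finset.univ.filter fun i : Fin n => b i ≤ b j).card := by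
  classical
  unfold stdDim
  congr 1
  ext i
  simp only [Finset.mem_filter, Finset.mem_univ, true_and]
  constructor
  · intro h
    by_contra hcon
    push Not at hcon
    exact h (fun j' hj' => lt_of_le_of_lt (hb hj') hcon)
  · intro h hcon
    exact absurd (hcon j le_rfl) (not_lt.2 h)

/-- block triangular invertible matrices -/
def blockSub (F : Type*) [Field F] (b : Fin n → ℕ) : Subgroup (GL (Fin n) F) where
  carrier := {g | (g : Matrix (Fin n) (Fin n) F).BlockTriangular b}
  mul_mem' := fun {a} {c} ha hc => by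
    change ((a : Matrix (Fin n) (Fin n) F) * (c : Matrix (Fin n) (Fin n) F)).BlockTriangular b
    exact Matrix.BlockTriangular.mul ha hc
  one_mem' := by
    change (1 : Matrix (Fin n) (Fin n) F).BlockTriangular b
    exact Matrix.blockTriangular_one
  inv_mem' := fun {a} ha => by
    change ((a⁻¹ : GL (Fin n) F) : Matrix (Fin n) (Fin n) F).BlockTriangular b
    have : Invertible (a : Matrix (Fin n) (Fin n) F) := a.invertible
    rw [Matrix.coe_units_inv]
    exact Matrix.blockTriangular_inv_of_blockTriangular ha

theorem parabolicGL_eq (μ : Fin n → ℕ) : parabolicGL n F μ = blockSub F (compLabel μ) := rfl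

theorem mem_blockSub {b : Fin n → ℕ} {g : GL (Fin n) F} :
    g ∈ blockSub F b ↔ ∀ i j, b j < b i → g.1 i j = 0 := Iff.rfl

theorem card_blockSub {b : Fin n → ℕ} (hb : Monotone b) :
    Nat.card (blockSub F b)
      = ∏ j : Fin n, (Fintype.card F ^ stdDim b j.val - Fintype.card F ^ j.val) := by
  rw [← card_flagLI (stdFlag F b) (stdFlag_mono b) (stdDim b) (card_stdFlag b) n]
  apply Nat.card_congr
  refine ((Matrix.equiv_GL_linearindependent (𝔽 := F) n).subtypeEquiv (p := fun g => g ∈ blockSub F b)
    (q := fun s => ∀ j, s.1 j ∈ stdFlag F b j.val) ?_).trans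
    (Equiv.subtypeSubtypeEquivSubtypeInter (fun s : Fin n → Fin n → F => LinearIndependent F s)
      (fun s => ∀ j : Fin n, s j ∈ stdFlag F b j.val))
  intro g
  rw [mem_blockSub]
  constructor
  · intro h j
    rw [mem_stdFlag hb]
    intro i hi
    exact h i j hi
  · intro h i j hij
    exact (mem_stdFlag hb j _).1 (h j) i hij

end Cfsg.Agent.Lib.Helper39.Stbg
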